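import Groth.Prelude.Def_CAlgX
import Groth.Agent.CommAlgDim.Depth
import Mathlib.LinearAlgebra.Matrix.Adjugate

/-! Maximal minors of an `n × m` matrix and the Hilbert–Burch theorem. -/

set_option autoImplicit false
universe u
open CAlgX Pointwise

namespace HBurchLib

open Matrix in
theorem minor_eq_zero_of_not_injective {R : Type u} [CommRing R] {m n r : ℕ} (M : Matrix (Fin n) (Fin m) R)
    (f : Fin r → Fin n) (g : Fin r → Fin m) (hg : ¬ Function.Injective g) : (M.submatrix f g).det = 0 := by
  simp only [Function.Injective, not_forall] at hg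
  obtain ⟨i, j, hij, hne⟩ := hg
  exact Matrix.det_zero_of_column_eq hne fun k => by simp [hij]

open Matrix in
theorem injective_of_annihilator {R : Type u} [CommRing R] {m n : ℕ} (M : Matrix (Fin n) (Fin m) R)
    (h : (CAlgX.minorIdeal M m).annihilator = ⊥) : Function.Injective (Matrix.mulVecLin M) := by
  rw [injective_iff_map_eq_zero]
  intro v hv
  rw [Matrix.mulVecLin_apply] at hv
  funext i
  have : v i ∈ (CAlgX.minorIdeal M m).annihilator := by
    rw [CAlgX.minorIdeal, Ideal.span, Submodule.mem_annihilator_span]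
    rintro ⟨_, ⟨f, g⟩, rfl⟩
    show v i • (M.submatrix f g).det = 0
    by_cases hg : Function.Injective g
    · obtain ⟨e, rfl⟩ : ∃ e : Equiv.Perm (Fin m), ⇑e = g :=
        ⟨Equiv.ofBijective g (Finite.injective_iff_bijective.1 hg), rfl⟩
      rw [show M.submatrix f e = (M.submatrix f id).submatrix id e from rfl, Matrix.det_permute']
      have h0 : (M.submatrix f id).det • v = 0 := by
        have e0 : M.submatrix f id *ᵥ v = 0 := by
          funext k
          exact congrFun hv (f k)
        have := congrArg ((M.submatrix f id).adjugate *ᵥ ·) e0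
        simpa [Matrix.mulVec_mulVec, Matrix.adjugate_mul, Matrix.smul_mulVec] using this
      have := congrFun h0 i
      simp only [Pi.smul_apply, smul_eq_mul, Pi.zero_apply] at this ⊢
      rw [mul_left_comm, mul_comm (v i), this, mul_zero]
    · rw [minor_eq_zero_of_not_injective M f g hg, smul_zero]
  rw [h] at this
  exact this

open Matrix in
theorem annihilator_of_injective {R : Type u} [CommRing R] {m n : ℕ} (M : Matrix (Fin n) (Fin m) R)
    (h : Function.Injective (Matrix.mulVecLin M)) : (CAlgX.minorIdeal M m).annihilator = ⊥ := by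
  classical
  rw [Submodule.eq_bot_iff]
  intro a ha
  rw [CAlgX.minorIdeal, Ideal.span, Submodule.mem_annihilator_span] at ha
  by_contra ha0
  let P : ℕ → Prop := fun r => ∃ (f : Fin r → Fin n) (g : Fin r → Fin m), a * (M.submatrix f g).det ≠ 0
  have hP0 : P 0 := ⟨finZeroElim, finZeroElim, by simpa using ha0⟩
  have hm : ¬ P m := by
    rintro ⟨f, g, hfg⟩
    exact hfg (ha ⟨_, ⟨(f, g), rfl⟩⟩)
  obtain ⟨r, hr, hrP⟩ : ∃ r, P r ∧ (¬ P (r + 1)) ∧ r < m := by
    have hex : ∃ r, ¬ P r := ⟨m, hm⟩
    have h0 : Nat.find hex ≠ 0 := fun h => (h ▸ Nat.find_spec hex) hP0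
    have hle : Nat.find hex ≤ m := Nat.find_le hm
    refine ⟨Nat.find hex - 1, not_not.1 (Nat.find_min hex (by omega)), ?_, by omega⟩
    rw [Nat.sub_add_cancel (by omega)]
    exact Nat.find_spec hex
  obtain ⟨hrP, hrm⟩ := hrP
  obtain ⟨f, g, hfg⟩ := hr
  obtain ⟨c, hc⟩ : ∃ c, c ∉ Set.range g := by
    by_contra! hs
    have := Fintype.card_le_of_surjective g hs
    simp at this
    omega
  let g' : Fin (r + 1) → Fin m := Fin.cons c g
  let C : Fin (r + 1) → R := fun j => (-1) ^ (j : ℕ) * (M.submatrix f (g' ∘ j.succAbove)).det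
  let v : Fin m → R := ∑ j, (a * C j) • Pi.single (g' j) 1
  have hv : M *ᵥ v = 0 := by
    funext i
    have e : a * (M.submatrix (Fin.cons i f) g').det = 0 := by
      by_contra hne
      exact hrP ⟨_, _, hne⟩
    rw [Matrix.det_succ_row_zero, Finset.mul_sum] at e
    refine Eq.trans ?_ e
    simp only [v, Matrix.mulVec, dotProduct, Finset.sum_apply, Finset.mul_sum]
    rw [Finset.sum_comm]
    refine Finset.sum_congr rfl fun j _ => ?_
    rw [Finset.sum_eq_single (g' j) (fun b _ hb => by simp [hb]) (by simp)]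
    have es : (M.submatrix (Fin.cons i f) g').submatrix Fin.succ j.succAbove = M.submatrix f (g' ∘ j.succAbove) := by
      ext p q; simp
    rw [es]
    simp [C]
    ring
  have hv0 : v = 0 := h (by rw [map_zero, Matrix.mulVecLin_apply, hv])
  have hvc := congrFun hv0 c
  simp only [v, Finset.sum_apply, Pi.zero_apply] at hvc
  rw [Finset.sum_eq_single 0 (fun b _ hb => ?_) (by simp)] at hvc
  · apply hfg
    have : g' ∘ (0 : Fin (r + 1)).succAbove = g := by
      funext p; simp [g']
    simpa [g', C, this] using hvc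
  · obtain ⟨p, rfl⟩ := Fin.exists_succ_eq.2 hb
    have : c ≠ g p := fun e => hc ⟨p, e.symm⟩
    simp [g', this]

open Matrix in
/-- To bound the ideal of maximal minors it suffices to treat the choices of rows. -/
theorem minorIdeal_le {R : Type u} [CommRing R] {m n : ℕ} (M : Matrix (Fin n) (Fin m) R) (K : Ideal R)
    (h : ∀ f : Fin m → Fin n, Function.Injective f → (M.submatrix f id).det ∈ K) :
    CAlgX.minorIdeal M m ≤ K := by
  rw [CAlgX.minorIdeal, Ideal.span_le]
  rintro _ ⟨⟨f, g⟩, rfl⟩
  show (M.submatrix f g).det ∈ K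
  by_cases hg : Function.Injective g
  · obtain ⟨e, rfl⟩ : ∃ e : Equiv.Perm (Fin m), ⇑e = g :=
      ⟨Equiv.ofBijective g (Finite.injective_iff_bijective.1 hg), rfl⟩
    rw [show M.submatrix f e = (M.submatrix f id).submatrix id e from rfl, Matrix.det_permute']
    refine K.mul_mem_left _ ?_
    by_cases hf : Function.Injective f
    · exact h f hf
    · simp only [Function.Injective, not_forall] at hf
      obtain ⟨i, j, hij, hne⟩ := hf
      rw [Matrix.det_zero_of_row_eq hne (funext fun k => by simp [hij])]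
      exact K.zero_mem
  · rw [minor_eq_zero_of_not_injective M f g hg]
    exact K.zero_mem

theorem det_mem_minorIdeal {R : Type u} [CommRing R] {m n : ℕ} (M : Matrix (Fin n) (Fin m) R)
    (f : Fin m → Fin n) : (M.submatrix f id).det ∈ CAlgX.minorIdeal M m :=
  Ideal.subset_span ⟨(f, id), rfl⟩

section Signed

variable {R : Type u} [CommRing R] {t : ℕ} (Ψ : Matrix (Fin (t + 1)) (Fin t) R)

/-- The signed maximal minors. -/
def del (i : Fin (t + 1)) : R := (-1 : R) ^ (i : ℕ) * (Ψ.submatrix i.succAbove id).det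

/-- The bordered matrix `[v | Ψ]`. -/
def border (v : Fin (t + 1) → R) : Matrix (Fin (t + 1)) (Fin (t + 1)) R :=
  Matrix.of fun k => Fin.cons (v k) (Ψ k)

@[simp] theorem border_zero (v : Fin (t + 1) → R) (k : Fin (t + 1)) : border Ψ v k 0 = v k := by
  simp [border]

@[simp] theorem border_succ (v : Fin (t + 1) → R) (k : Fin (t + 1)) (l : Fin t) :
    border Ψ v k l.succ = Ψ k l := by simp [border]

theorem border_submatrix (v : Fin (t + 1) → R) (i : Fin (t + 1)) :
    (border Ψ v).submatrix i.succAbove Fin.succ = Ψ.submatrix i.succAbove id := by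
  ext a b; simp

theorem det_border (v : Fin (t + 1) → R) : (border Ψ v).det = ∑ i, del Ψ i * v i := by
  rw [Matrix.det_succ_column_zero]
  exact Finset.sum_congr rfl fun i _ => by rw [border_submatrix, border_zero, del]; ring

theorem adjugate_border_zero (v : Fin (t + 1) → R) (j : Fin (t + 1)) :
    (border Ψ v).adjugate 0 j = del Ψ j := by
  rw [Matrix.adjugate_fin_succ_eq_det_submatrix, Fin.succAbove_zero, border_submatrix, del]
  simp

theorem sum_del_mul_col (l : Fin t) : ∑ i, del Ψ i * Ψ i l = 0 := by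
  rw [← det_border Ψ fun k => Ψ k l]
  exact Matrix.det_zero_of_column_eq (i := 0) (j := l.succ) (Fin.succ_ne_zero l).symm (fun k => by simp)

/-- A relation of the signed minors times a signed minor lies in the image. -/
theorem del_smul_mem_range (v : Fin (t + 1) → R) (hv : ∑ i, del Ψ i * v i = 0) (j : Fin (t + 1)) :
    del Ψ j • v ∈ LinearMap.range Ψ.mulVecLin := by
  refine ⟨fun l => -(border Ψ v).adjugate l.succ j, funext fun k => ?_⟩
  have h := congrFun (congrFun (Matrix.mul_adjugate (border Ψ v)) k) j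
  rw [det_border, hv, zero_smul, Matrix.mul_apply, Fin.sum_univ_succ, adjugate_border_zero, border_zero] at h
  simp only [border_succ, Matrix.zero_apply] at h
  simp only [Matrix.mulVecLin_apply, Matrix.mulVec, dotProduct, mul_neg, Finset.sum_neg_distrib,
    Pi.smul_apply, smul_eq_mul]
  linear_combination -h

/-- A covector killing the columns is proportional to the signed minors. -/
theorem mul_del_comm (f : Fin (t + 1) → R) (hf : ∀ l, ∑ i, f i * Ψ i l = 0) (i j : Fin (t + 1)) :
    f i * del Ψ j = del Ψ i * f j := by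
  classical
  let v : Fin (t + 1) → R := Pi.single i 1
  have h1 : Matrix.vecMul f (border Ψ v) = Pi.single 0 (f i) := by
    funext k
    refine Fin.cases ?_ (fun l => ?_) k
    · simp [Matrix.vecMul, dotProduct, v, Pi.single_apply]
    · simp [Matrix.vecMul, dotProduct, hf l, Fin.succ_ne_zero]
  have h2 := congrArg (fun w => Matrix.vecMul w (border Ψ v).adjugate j) h1
  simp only [Matrix.vecMul_vecMul, Matrix.mul_adjugate, Matrix.single_vecMul, Matrix.vecMul_smul,
    Matrix.vecMul_one, det_border, Pi.smul_apply, smul_eq_mul] at h2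
  simpa [v, Pi.single_apply, adjugate_border_zero] using h2.symm

theorem del_mem_minorIdeal (i : Fin (t + 1)) : del Ψ i ∈ CAlgX.minorIdeal Ψ t :=
  Ideal.mul_mem_left _ _ (det_mem_minorIdeal Ψ _)

theorem minorIdeal_eq_span : CAlgX.minorIdeal Ψ t = Ideal.span (Set.range (del Ψ)) := by
  refine le_antisymm (minorIdeal_le Ψ _ fun f hf => ?_)
    (Ideal.span_le.2 fun _ ⟨i, hi⟩ => hi ▸ del_mem_minorIdeal Ψ i)
  obtain ⟨i, hi⟩ : ∃ i, i ∉ Set.range f := by
    by_contra! hs
    have := Fintype.card_le_of_surjective f hs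
    simp at this
  choose e he using fun k => Fin.exists_succAbove_eq (x := f k) (y := i) fun h => hi ⟨k, h⟩
  have heinj : Function.Injective e := fun a b hab => hf (by rw [← he a, ← he b, hab])
  let σ : Equiv.Perm (Fin t) := Equiv.ofBijective e (Finite.injective_iff_bijective.1 heinj)
  have hs : Ψ.submatrix f id = (Ψ.submatrix i.succAbove id).submatrix σ id := by
    ext a b; simp [σ, he]
  have hd : (Ψ.submatrix i.succAbove id).det = (-1 : R) ^ (i : ℕ) * del Ψ i := by
    rw [del, ← mul_assoc, ← mul_pow, neg_one_mul, neg_neg, one_pow, one_mul]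
  rw [hs, Matrix.det_permute, hd]
  exact Ideal.mul_mem_left _ _ (Ideal.mul_mem_left _ _ (Ideal.subset_span ⟨i, rfl⟩))

theorem range_linearCombination (a : R) :
    LinearMap.range (Fintype.linearCombination R (fun i => a * del Ψ i)) =
      Ideal.span {a} * CAlgX.minorIdeal Ψ t := by
  rw [Fintype.range_linearCombination, minorIdeal_eq_span, Ideal.span_mul_span']
  congr 1
  ext z
  simp

end Signed

/-- An ideal with zero annihilator contains a regular element. -/
theorem exists_regular_mem {R : Type u} [CommRing R] [IsNoetherianRing R] (I : Ideal R)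
    (h : I.annihilator = ⊥) : ∃ x ∈ I, IsSMulRegular R x := by
  refine CommAlgDim.exists_isSMulRegular_mem fun p hp hle => ?_
  obtain ⟨hprime, z, hz⟩ := isAssociatedPrime_iff.1 hp
  have hz0 : z ≠ 0 := fun h0 => hprime.ne_top (by rw [hz, h0]; ext; simp)
  refine hz0 ((Submodule.mem_bot R).1 (h ▸ Submodule.mem_annihilator.2 fun y hy => ?_))
  have := hle hy
  rw [hz, Submodule.mem_colon_singleton, Submodule.mem_bot, smul_eq_mul] at this
  rw [smul_eq_mul, mul_comm, this]

theorem hasSeqIn_two_iff {R : Type u} [CommRing R] (I : Ideal R) :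
    CommAlgDim.HasSeqIn I R 2 ↔ ∃ x ∈ I, ∃ y ∈ I, IsSMulRegular R x ∧
      ∀ c : R, y * c ∈ Ideal.span {x} → c ∈ Ideal.span {x} := by
  have key : ∀ x y : R, IsSMulRegular (QuotSMulTop x R) y ↔
      ∀ c : R, y * c ∈ Ideal.span {x} → c ∈ Ideal.span {x} := by
    intro x y
    rw [isSMulRegular_quotient_iff_mem_of_smul_mem]
    have hm : ∀ c : R, c ∈ x • (⊤ : Submodule R R) ↔ c ∈ Ideal.span {x} := fun c => by
      simp [Submodule.mem_smul_pointwise_iff_exists, Ideal.mem_span_singleton', mul_comm, eq_comm]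
    simp [hm]
  refine ⟨fun ⟨rs, hl, hm, hr⟩ => ?_, fun ⟨x, hx, y, hy, hxr, hyr⟩ => ?_⟩
  · obtain ⟨x, y, rfl⟩ := List.length_eq_two.1 hl
    rw [RingTheory.Sequence.isWeaklyRegular_cons_iff, RingTheory.Sequence.isWeaklyRegular_singleton_iff] at hr
    exact ⟨x, hm x (by simp), y, hm y (by simp), hr.1, (key x y).1 hr.2⟩
  · refine ⟨[x, y], rfl, by simp [hx, hy], ?_⟩
    rw [RingTheory.Sequence.isWeaklyRegular_cons_iff, RingTheory.Sequence.isWeaklyRegular_singleton_iff]
    exact ⟨hxr, (key x y).2 hyr⟩

end HBurchLib
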